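import Groth.Agent.H02CA.GeomReducedField
import Mathlib

/-!
Fields of invariants are linearly disjoint from the `p`-th powers: an extension `F/L` such that `L` is the
equaliser of a family of pairs of geometrically reduced embeddings `F ⇉ E i` is separable.
-/

namespace Groth.Agent.H02CA.GQSmooth

universe u v w

open scoped Classical

/-- A relation over `E` with coefficients from `F` and `p`-th powers gives one over `F`. -/
theorem exists_solution_of_geometricallyReduced {F : Type u} {E : Type u} [Field F] [Field E] [Algebra F E]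
    [Algebra.IsGeometricallyReduced F E] (p : ℕ) (hp : p.Prime) [CharP F p] {ι : Type w} (T : Finset ι)
    (a : ι → F) (z : ι → E) (hz : ∑ j ∈ T, algebraMap F E (a j) * z j ^ p = 0)
    (hne : ∃ j ∈ T, z j ≠ 0) :
    ∃ y : ι → F, ∑ j ∈ T, a j * y j ^ p = 0 ∧ ∃ j ∈ T, y j ≠ 0 := by
  haveI : Fact p.Prime := ⟨hp⟩
  haveI : CharP E p := charP_of_injective_algebraMap (algebraMap F E).injective p
  let b := Module.Basis.ofVectorSpace F E
  let S := T.biUnion fun j => (b.repr (z j)).support
  have hexp : ∀ j ∈ T, z j = ∑ k ∈ S, b.repr (z j) k • b k := by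
    intro j hj
    conv_lhs => rw [← b.linearCombination_repr (z j), Finsupp.linearCombination_apply]
    exact Finsupp.sum_of_support_subset _
      (fun k hk => Finset.mem_biUnion.2 ⟨j, hj, hk⟩) _ (fun k _ => zero_smul _ _)
  have hind : LinearIndependent F (fun k : S => b k ^ p) := by
    have h1 : LinearIndepOn F _root_.id ((S.image b : Finset E) : Set E) := by
      rw [Finset.coe_image]
      exact (b.linearIndependent.linearIndepOn _).id_image
    have h2 := linearIndepOn_pow_of_isGeometricallyReduced p hp (S.image b) h1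
    exact h2.comp (fun k : S => ⟨b k, Finset.mem_image_of_mem b k.2⟩)
      fun k l hkl => Subtype.ext (b.injective (congrArg Subtype.val hkl))
  have hcoef : ∀ k ∈ S, ∑ j ∈ T, a j * b.repr (z j) k ^ p = 0 := by
    intro k hk
    refine (Fintype.linearIndependent_iff.1 hind) (fun k : S => ∑ j ∈ T, a j * b.repr (z j) k ^ p) ?_ ⟨k, hk⟩
    rw [Finset.sum_coe_sort S (fun k => (∑ j ∈ T, a j * b.repr (z j) k ^ p) • b k ^ p)]
    simp only [Finset.sum_smul]
    rw [Finset.sum_comm, ← hz]
    refine Finset.sum_congr rfl fun j hj => ?_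
    conv_rhs => rw [hexp j hj, sum_pow_char p, Finset.mul_sum]
    refine Finset.sum_congr rfl fun k _ => ?_
    rw [Algebra.smul_def, Algebra.smul_def, mul_pow, map_mul, map_pow, mul_assoc]
  obtain ⟨j, hj, hj0⟩ := hne
  obtain ⟨k, hk⟩ : ∃ k, b.repr (z j) k ≠ 0 := by
    by_contra h
    push Not at h
    exact hj0 (b.repr.injective (by rw [map_zero]; exact Finsupp.ext h))
  exact ⟨fun j => b.repr (z j) k, hcoef k (Finset.mem_biUnion.2 ⟨j, hj, Finsupp.mem_support_iff.2 hk⟩),
    j, hj, hk⟩

section Invariants

variable {L : Type u} {F : Type u} [Field L] [Field F] [Algebra L F] (p : ℕ) [hp : Fact p.Prime] [CharP F p]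
  {I : Type w} {E : I → Type u} [∀ i, Field (E i)] (s t : ∀ i, F →+* E i)
  (hL : ∀ i c, s i (algebraMap L F c) = t i (algebraMap L F c))
  (hfix : ∀ y, (∀ i, s i y = t i y) → ∃ c, algebraMap L F c = y)
  (hred : ∀ i, @Algebra.IsGeometricallyReduced F (E i) _ _ (t i).toAlgebra)

include hp hL hfix hred

/-- A relation over `F` with coefficients from `L` and `p`-th powers gives one over `L`. -/
theorem exists_rational_solution {ι : Type v} (T : Finset ι) (c : ι → L) :
    ∀ y : ι → F, ∑ j ∈ T, algebraMap L F (c j) * y j ^ p = 0 → (∃ j ∈ T, y j ≠ 0) →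
      ∃ l : ι → L, ∑ j ∈ T, c j * l j ^ p = 0 ∧ ∃ j ∈ T, l j ≠ 0 := by
  induction T using Finset.strongInduction with
  | H T IH =>
    intro y hy hne
    have hext : ∀ j₁ ∈ T, ∀ y' : ι → F, ∑ j ∈ T.erase j₁, algebraMap L F (c j) * y' j ^ p = 0 →
        (∃ j ∈ T.erase j₁, y' j ≠ 0) → ∃ l : ι → L, ∑ j ∈ T, c j * l j ^ p = 0 ∧ ∃ j ∈ T, l j ≠ 0 := by
      intro j₁ hj₁ y' hy' hne'
      obtain ⟨l, hl, j₂, hj₂, hl₂⟩ := IH _ (Finset.erase_ssubset hj₁) y' hy' hne'
      refine ⟨Function.update l j₁ 0, ?_, j₂, Finset.mem_of_mem_erase hj₂, ?_⟩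
      · rw [← Finset.add_sum_erase _ _ hj₁, Function.update_self, zero_pow hp.out.ne_zero, mul_zero,
          zero_add, ← hl]
        exact Finset.sum_congr rfl fun j hj => by rw [Function.update_of_ne (Finset.ne_of_mem_erase hj)]
      · rwa [Function.update_of_ne (Finset.ne_of_mem_erase hj₂)]
    obtain ⟨j₁, hj₁, hy₁⟩ := hne
    let w : ι → F := fun j => y j / y j₁
    have hw₁ : w j₁ = 1 := div_self hy₁
    have hw : ∑ j ∈ T, algebraMap L F (c j) * w j ^ p = 0 := by
      have : ∀ j, algebraMap L F (c j) * w j ^ p = (algebraMap L F (c j) * y j ^ p) / y j₁ ^ p :=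
        fun j => by simp only [w, div_pow]; ring
      simp only [this]
      rw [← Finset.sum_div, hy, zero_div]
    by_cases hinv : ∀ j ∈ T, ∀ i, s i (w j) = t i (w j)
    · have : ∀ j, ∃ l : L, j ∈ T → algebraMap L F l = w j := fun j => by
        by_cases hj : j ∈ T
        · obtain ⟨l, hl⟩ := hfix _ (hinv j hj)
          exact ⟨l, fun _ => hl⟩
        · exact ⟨0, fun h => absurd h hj⟩
      choose l hl using this
      refine ⟨l, (algebraMap L F).injective ?_, j₁, hj₁, fun h0 => ?_⟩
      · rw [map_zero, map_sum, ← hw]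
        exact Finset.sum_congr rfl fun j hj => by rw [map_mul, map_pow, hl j hj]
      · have := hl j₁ hj₁
        rw [h0, map_zero, hw₁] at this
        exact zero_ne_one this
    · push Not at hinv
      obtain ⟨j₂, hj₂, i, hji⟩ := hinv
      have hj₂' : j₂ ∈ T.erase j₁ := Finset.mem_erase.2
        ⟨fun h => hji (by rw [h, hw₁, map_one, map_one]), hj₂⟩
      letI : Algebra F (E i) := (t i).toAlgebra
      haveI := hred i
      haveI : CharP (E i) p := charP_of_injective_algebraMap (t i).injective p
      have hz : ∑ j ∈ T.erase j₁, algebraMap F (E i) (algebraMap L F (c j)) * (s i (w j) - t i (w j)) ^ p = 0 := by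
        have e : ∀ j, algebraMap F (E i) (algebraMap L F (c j)) * (s i (w j) - t i (w j)) ^ p
            = s i (algebraMap L F (c j) * w j ^ p) - t i (algebraMap L F (c j) * w j ^ p) := fun j => by
          rw [sub_pow_char (s i (w j)), map_mul, map_mul, map_pow, map_pow, hL i, mul_sub]
          rfl
        simp only [e]
        rw [Finset.sum_sub_distrib, ← map_sum, ← map_sum,
          Finset.sum_erase_eq_sub hj₁, hw, hw₁, map_sub, map_sub, map_zero, map_zero, one_pow, mul_one, hL i,
          sub_self]
      obtain ⟨y', hy', hne'⟩ := exists_solution_of_geometricallyReduced p hp.out (T.erase j₁)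
        (fun j => algebraMap L F (c j)) _ hz ⟨j₂, hj₂', sub_ne_zero.2 hji⟩
      exact hext j₁ hj₁ y' hy' hne'

/-- `p`-th powers of elements linearly independent over the invariants are linearly independent. -/
theorem eq_zero_of_relation {ι : Type v} (T : Finset ι) :
    ∀ (x : ι → F), (∀ f : ι → L, ∑ j ∈ T, f j • x j = 0 → ∀ j ∈ T, f j = 0) →
    ∀ (c : ι → L), ∑ j ∈ T, algebraMap L F (c j) * x j ^ p = 0 → ∀ j ∈ T, c j = 0 := by
  induction T using Finset.strongInduction with
  | H T IH =>
    intro x hx c hc j hj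
    have hxne : ∀ j ∈ T, x j ≠ 0 := by
      intro k hk hk0
      have := hx (fun l => if l = k then 1 else 0) (by
        refine Finset.sum_eq_zero fun l _ => ?_
        by_cases hl : l = k <;> simp [hl, hk0]) k hk
      simp at this
    obtain ⟨l, hl, j₁, hj₁, hl₁⟩ := exists_rational_solution p s t hL hfix hred T c x hc ⟨j, hj, hxne j hj⟩
    let m : ι → L := fun k => l k / l j₁
    have hm₁ : m j₁ = 1 := div_self hl₁
    have hc₁ : c j₁ = -∑ k ∈ T.erase j₁, c k * m k ^ p := by
      have : ∑ k ∈ T, c k * m k ^ p = 0 := by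
        have e : ∀ k, c k * m k ^ p = (c k * l k ^ p) / l j₁ ^ p := fun k => by simp only [m, div_pow]; ring
        simp only [e]
        rw [← Finset.sum_div, hl, zero_div]
      rw [← Finset.add_sum_erase _ _ hj₁, hm₁, one_pow, mul_one] at this
      exact eq_neg_of_add_eq_zero_left this
    let x' : ι → F := fun k => x k - algebraMap L F (m k) * x j₁
    have hx' : ∀ f : ι → L, ∑ k ∈ T.erase j₁, f k • x' k = 0 → ∀ k ∈ T.erase j₁, f k = 0 := by
      intro f hf k hk
      have := hx (Function.update f j₁ (-∑ i ∈ T.erase j₁, f i * m i)) (by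
        rw [← Finset.add_sum_erase _ _ hj₁, Function.update_self, ← hf]
        rw [Finset.sum_congr rfl (fun i hi => by rw [Function.update_of_ne (Finset.ne_of_mem_erase hi)] :
          ∀ i ∈ T.erase j₁, Function.update f j₁ (-∑ i ∈ T.erase j₁, f i * m i) i • x i = f i • x i)]
        simp only [x', Algebra.smul_def, map_neg, map_sum, map_mul, mul_sub, Finset.sum_sub_distrib,
          neg_mul, Finset.sum_mul, mul_assoc]
        ring) k (Finset.mem_of_mem_erase hk)
      rwa [Function.update_of_ne (Finset.ne_of_mem_erase hk)] at this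
    have hc' : ∑ k ∈ T.erase j₁, algebraMap L F (c k) * x' k ^ p = 0 := by
      simp only [x', sub_pow_char, mul_pow, mul_sub, Finset.sum_sub_distrib]
      rw [← hc, ← Finset.add_sum_erase _ _ hj₁, hc₁]
      simp only [map_neg, map_sum, map_mul, map_pow, neg_mul, Finset.sum_mul, mul_assoc]
      ring
    have hall := IH _ (Finset.erase_ssubset hj₁) x' hx' c hc'
    rcases eq_or_ne j j₁ with rfl | hne
    · rw [hc₁, Finset.sum_eq_zero fun k hk => by rw [hall k hk, zero_mul], neg_zero]
    · exact hall j (Finset.mem_erase.2 ⟨hne, hj⟩)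

/-- Hence such an extension, if essentially of finite type, is formally smooth. -/
theorem formallySmooth_of_invariants [Algebra.EssFiniteType L F] : Algebra.FormallySmooth L F := by
  haveI : CharP L p := (algebraMap L F).charP (algebraMap L F).injective p
  obtain ⟨S, hS, H⟩ := exists_isTranscendenceBasis_and_isSeparable_of_linearIndepOn_pow_of_essFiniteType
    (k := L) (K := F) p hp.out (fun T hT => by
      have hx : ∀ f : F → L, ∑ j ∈ T, f j • j = 0 → ∀ j ∈ T, f j = 0 := fun f hf =>
        linearIndepOn_finset_iff.1 hT f hf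
      refine linearIndepOn_finset_iff.2 fun f hf j hj => ?_
      exact eq_zero_of_relation p s t hL hfix hred T _root_.id hx f
        (by simpa [Algebra.smul_def] using hf) j hj)
  haveI : Algebra.IsSeparable (↥(IntermediateField.adjoin L (Set.range ((↑) : S → F)))) F := by
    convert! H <;> simp
  exact .of_algebraicIndependent_of_isSeparable hS.1

end Invariants

end Groth.Agent.H02CA.GQSmooth
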