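import Groth.Agent.H02CA.GQSmooth.Field
import Groth.Agent.S2451
import Groth.Agent.H17.GenericStalk
import Groth.Agent.H06RadPt.BiratFlat
import Groth.Agent.H13AlgSp.EtaleLocally
import Groth.Agent.H17.LocusBC

/-!
The rational invariants of an integral scheme with a smooth equivalence relation: the function field is formally
smooth over the function field of the geometric quotient.
-/

universe u

open CategoryTheory AlgebraicGeometry Topology TopologicalSpace

namespace Groth.Agent.H02CA.GQSmooth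

/-- Sections of a reduced scheme agreeing at the generic points are equal. -/
theorem eq_of_germ_genericPoints {W : Scheme.{u}} [IsReduced W] {N : W.Opens} (a b : Γ(W, N))
    (h : ∀ η ∈ genericPoints W, ∀ hη : η ∈ N, W.presheaf.germ N η hη a = W.presheaf.germ N η hη b) : a = b := by
  rw [← sub_eq_zero, ← basicOpen_eq_bot_iff]
  by_contra hne
  obtain ⟨u, hu⟩ : ((W.basicOpen (a - b) : W.Opens) : Set W).Nonempty := by
    rw [Set.nonempty_iff_ne_empty]
    exact fun he => hne (Opens.ext (by simpa using he))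
  obtain ⟨η, hη, hηu⟩ := Groth.Agent.H8Props.exists_genericPoints_specializes u
  have hmem := hηu.mem_open (W.basicOpen (a - b)).2 hu
  have hηN : η ∈ N := W.basicOpen_le (a - b) hmem
  have := (W.mem_basicOpen (a - b) η hηN).1 hmem
  rw [map_sub, h η hη hηN, sub_self] at this
  exact not_isUnit_zero this

variable {X Y W : Scheme.{u}} [IsIntegral X]

theorem map_eq_genericPoint (s : W ⟶ X) [Flat s] {η : W} (hη : η ∈ genericPoints W) : s η = genericPoint X := by
  have := Groth.Agent.H06RadPt.mem_genericPoints_of_flat s hη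
  rw [genericPoints_eq_singleton] at this
  exact this

/-- The pull-back of rational functions to a generic point. -/
noncomputable def pullRat (s : W ⟶ X) [Flat s] {η : W} (hη : η ∈ genericPoints W) :
    X.presheaf.stalk (genericPoint X) ⟶ W.presheaf.stalk η :=
  X.presheaf.stalkSpecializes (specializes_of_eq (map_eq_genericPoint s hη)) ≫ s.stalkMap η

theorem pullRat_germ (s : W ⟶ X) [Flat s] {η : W} (hη : η ∈ genericPoints W) (V : X.Opens)
    (hξ : genericPoint X ∈ V) (f : Γ(X, V)) (hV : s η ∈ V) :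
    pullRat s hη (X.presheaf.germ V _ hξ f) = W.presheaf.germ (s ⁻¹ᵁ V) η hV (s.app V f) := by
  simp only [pullRat, CommRingCat.comp_apply]
  rw [TopCat.Presheaf.germ_stalkSpecializes_apply]
  exact Scheme.Hom.germ_stalkMap_apply s V η hV f

theorem genericPoint_mem {V : X.Opens} {x : X} (hx : x ∈ V) : genericPoint X ∈ V :=
  (genericPoint_specializes x).mem_open V.2 hx

theorem formallySmooth_pullRat (t : W ⟶ X) [Smooth t] {η : W} (hη : η ∈ genericPoints W) :
    (pullRat t hη).hom.FormallySmooth := by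
  have hm : (t.stalkMap η).hom.FormallySmooth := by
    have : η ∈ t.smoothLocus := by rw [Scheme.Hom.smoothLocus_eq_top]; trivial
    exact this
  have key : ∀ (x : X) (hx : t η = x), (X.presheaf.stalkSpecializes (specializes_of_eq hx) ≫ t.stalkMap η).hom.FormallySmooth := by
    rintro x rfl
    rw [TopCat.Presheaf.stalkSpecializes_refl, Category.id_comp]
    exact hm
  exact key _ (map_eq_genericPoint t hη)

section

variable (π : X ⟶ Y) (s t : W ⟶ X) [Smooth s] [Smooth t]

/-- Pull-backs of functions on the base are invariant. -/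
theorem pullRat_stalkMap (hst : s ≫ π = t ≫ π) {η : W} (hη : η ∈ genericPoints W)
    (c : Y.presheaf.stalk (π (genericPoint X))) :
    pullRat s hη (π.stalkMap _ c) = pullRat t hη (π.stalkMap _ c) := by
  obtain ⟨U, hU, g, rfl⟩ := Y.presheaf.germ_exist c
  rw [Scheme.Hom.germ_stalkMap_apply π U _ hU g]
  have hs : s η ∈ π ⁻¹ᵁ U := by rw [map_eq_genericPoint s hη]; exact hU
  have ht : t η ∈ π ⁻¹ᵁ U := by rw [map_eq_genericPoint t hη]; exact hU
  erw [pullRat_germ s hη _ _ _ hs, pullRat_germ t hη _ _ _ ht]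
  have key : ∀ (φ φ' : W ⟶ Y), φ = φ' → ∀ (h : φ η ∈ U) (h' : φ' η ∈ U),
      W.presheaf.germ (φ ⁻¹ᵁ U) η h (φ.app U g) = W.presheaf.germ (φ' ⁻¹ᵁ U) η h' (φ'.app U g) := by
    rintro φ _ rfl h h'; rfl
  exact key (s ≫ π) (t ≫ π) hst hs ht

/-- The open set on which a rational function is defined. -/
def domain (y : X.presheaf.stalk (genericPoint X)) : Set X :=
  {x | ∃ (V : X.Opens) (hx : x ∈ V) (f : Γ(X, V)), X.presheaf.germ V _ (genericPoint_mem hx) f = y}

theorem isOpen_domain (y : X.presheaf.stalk (genericPoint X)) : IsOpen (domain y) :=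
  isOpen_iff_forall_mem_open.2 fun _ ⟨V, hx, f, hf⟩ =>
    ⟨V, fun _ hz => ⟨V, hz, f, hf⟩, V.2, hx⟩

/-- The domain of an invariant rational function is invariant. -/
theorem domain_invariant (y : X.presheaf.stalk (genericPoint X))
    (hy : ∀ η (hη : η ∈ genericPoints W), pullRat s hη y = pullRat t hη y) (w : W) (hw : s w ∈ domain y) :
    t w ∈ domain y := by
  obtain ⟨V, hwV, f, hf⟩ := hw
  haveI : IsReduced W := Groth.Agent.H13AlgSp.isReduced_of_smooth_mor t
  obtain ⟨b, c, hc, hbc⟩ := IsFractionRing.div_surjective (A := X.presheaf.stalk (t w)) (K := X.functionField) y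
  have hc0 : algebraMap (X.presheaf.stalk (t w)) X.functionField c ≠ 0 :=
    (map_ne_zero_iff _ (IsFractionRing.injective _ X.functionField)).2 (nonZeroDivisors.ne_zero hc)
  rw [div_eq_iff hc0] at hbc
  obtain ⟨A₁, h₁, b', rfl⟩ := X.presheaf.germ_exist b
  obtain ⟨A₂, h₂, c', rfl⟩ := X.presheaf.germ_exist c
  have hb₁ : X.presheaf.germ A₁ _ (genericPoint_mem h₁) b'
      = y * X.presheaf.germ A₂ _ (genericPoint_mem h₂) c' := by
    rw [← TopCat.Presheaf.germ_stalkSpecializes_apply (h := (genericPoint_spec X).specializes (Set.mem_univ (t w)))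
      (hy := h₁), ← TopCat.Presheaf.germ_stalkSpecializes_apply
      (h := (genericPoint_spec X).specializes (Set.mem_univ (t w))) (hy := h₂)]
    exact hbc
  let N : W.Opens := (s ⁻¹ᵁ V ⊓ t ⁻¹ᵁ A₁) ⊓ t ⁻¹ᵁ A₂
  have hwN : w ∈ N := ⟨⟨hwV, h₁⟩, h₂⟩
  have heq : t.appLE A₁ N (inf_le_left.trans inf_le_right) b'
      = t.appLE A₂ N inf_le_right c' * s.appLE V N (inf_le_left.trans inf_le_left) f := by
    refine eq_of_germ_genericPoints _ _ fun η hη hηN => ?_
    simp only [map_mul, Scheme.Hom.appLE, CommRingCat.comp_apply, TopCat.Presheaf.germ_res_apply]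
    erw [← pullRat_germ t hη A₁ (genericPoint_mem h₁) b' hηN.1.2,
      ← pullRat_germ t hη A₂ (genericPoint_mem h₂) c' hηN.2,
      ← pullRat_germ s hη V (genericPoint_mem hwV) f hηN.1.1]
    rw [hb₁, map_mul, hf, hy η hη, mul_comm]
  have hloc := congrArg (W.presheaf.germ N w hwN) heq
  simp only [map_mul, Scheme.Hom.appLE, CommRingCat.comp_apply, TopCat.Presheaf.germ_res_apply] at hloc
  erw [← Scheme.Hom.germ_stalkMap_apply t A₁ w h₁ b', ← Scheme.Hom.germ_stalkMap_apply t A₂ w h₂ c'] at hloc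
  letI : Algebra (X.presheaf.stalk (t w)) (W.presheaf.stalk w) := (t.stalkMap w).hom.toAlgebra
  haveI : Module.Flat (X.presheaf.stalk (t w)) (W.presheaf.stalk w) := Flat.stalkMap t w
  haveI : IsLocalHom (algebraMap (X.presheaf.stalk (t w)) (W.presheaf.stalk w)) :=
    inferInstanceAs (IsLocalHom (t.stalkMap w).hom)
  haveI : Module.FaithfullyFlat (X.presheaf.stalk (t w)) (W.presheaf.stalk w) :=
    Module.FaithfullyFlat.of_flat_of_isLocalHom
  have hmem : X.presheaf.germ A₁ (t w) h₁ b' ∈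
      Ideal.span {X.presheaf.germ A₂ (t w) h₂ c'} := by
    rw [← Ideal.comap_map_eq_self_of_faithfullyFlat (B := W.presheaf.stalk w)
      (Ideal.span {X.presheaf.germ A₂ (t w) h₂ c'}), Ideal.mem_comap, Ideal.map_span, Set.image_singleton,
      Ideal.mem_span_singleton]
    exact ⟨_, hloc⟩
  obtain ⟨d, hd⟩ := Ideal.mem_span_singleton.1 hmem
  obtain ⟨A₃, h₃, d', rfl⟩ := X.presheaf.germ_exist d
  refine ⟨A₃, h₃, d', ?_⟩
  refine mul_right_cancel₀ (b := algebraMap (X.presheaf.stalk (t w)) X.functionField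
    (X.presheaf.germ A₂ (t w) h₂ c')) hc0 (Eq.trans ?_ hbc)
  rw [hd, map_mul, mul_comm]
  congr 1
  exact (TopCat.Presheaf.germ_stalkSpecializes_apply (hy := h₃) ..).symm

/-- An invariant rational function comes from the quotient. -/
theorem exists_eq_stalkMap (hst : s ≫ π = t ≫ π)
    (orb : ∀ x x', π x = π x' → ∃ w, s w = x ∧ t w = x') (hq : IsQuotientMap π)
    (hsec : ∀ (U : Y.Opens) (f : Γ(X, π ⁻¹ᵁ U)),
      s.appLE (π ⁻¹ᵁ U) (s ⁻¹ᵁ (π ⁻¹ᵁ U) ⊓ t ⁻¹ᵁ (π ⁻¹ᵁ U)) inf_le_left f =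
        t.appLE (π ⁻¹ᵁ U) (s ⁻¹ᵁ (π ⁻¹ᵁ U) ⊓ t ⁻¹ᵁ (π ⁻¹ᵁ U)) inf_le_right f →
      ∃ g, π.app U g = f)
    (y : X.presheaf.stalk (genericPoint X))
    (hy : ∀ η (hη : η ∈ genericPoints W), pullRat s hη y = pullRat t hη y) :
    ∃ c, π.stalkMap (genericPoint X) c = y := by
  haveI : IsReduced W := Groth.Agent.H13AlgSp.isReduced_of_smooth_mor t
  have hsat : π ⁻¹' (π '' domain y) = domain y := by
    refine (Set.subset_preimage_image π _).antisymm' ?_
    rintro x' ⟨x, hx, hxx'⟩
    obtain ⟨w, rfl, rfl⟩ := orb x x' hxx'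
    exact domain_invariant s t y hy w hx
  let U : Y.Opens := ⟨π '' domain y, hq.isOpen_preimage.1 (by rw [hsat]; exact isOpen_domain y)⟩
  have hξ : genericPoint X ∈ π ⁻¹ᵁ U := by
    obtain ⟨V, hV, f, hf⟩ := X.presheaf.germ_exist y
    exact ⟨_, ⟨V, hV, f, hf⟩, rfl⟩
  let J := {p : Σ V : X.Opens, Γ(X, V) // ∃ h : genericPoint X ∈ p.1, X.presheaf.germ p.1 _ h p.2 = y}
  have hcompat : TopCat.Presheaf.IsCompatible X.presheaf (fun j : J => j.1.1) (fun j => j.1.2) := by
    rintro ⟨⟨V, f⟩, hV, hf⟩ ⟨⟨V', f'⟩, hV', hf'⟩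
    apply germ_injective_of_isIntegral X (genericPoint X) (U := V ⊓ V') ⟨hV, hV'⟩
    rw [TopCat.Presheaf.germ_res_apply, TopCat.Presheaf.germ_res_apply]
    exact hf.trans hf'.symm
  obtain ⟨F, hF, -⟩ := X.sheaf.existsUnique_gluing' (fun j : J => j.1.1) (π ⁻¹ᵁ U)
    (fun j => homOfLE (fun x hx => show π x ∈ π '' domain y from
      ⟨x, ⟨j.1.1, hx, j.1.2, by obtain ⟨h, e⟩ := j.2; exact e⟩, rfl⟩))
    (by
      intro x hx
      have hx' : x ∈ domain y := hsat ▸ hx
      obtain ⟨V, hxV, f, hf⟩ := hx'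
      exact Opens.mem_iSup.2 ⟨⟨⟨V, f⟩, genericPoint_mem hxV, hf⟩, hxV⟩)
    (fun j => j.1.2) hcompat
  have hFy : X.presheaf.germ (π ⁻¹ᵁ U) _ hξ F = y := by
    obtain ⟨V, hV, f, hf⟩ := X.presheaf.germ_exist y
    have := congrArg (X.presheaf.germ V _ hV) (hF ⟨⟨V, f⟩, hV, hf⟩)
    erw [TopCat.Presheaf.germ_res_apply] at this
    exact this.trans hf
  obtain ⟨g, hg⟩ := hsec U F (by
    refine eq_of_germ_genericPoints _ _ fun η hη hηN => ?_
    simp only [Scheme.Hom.appLE, CommRingCat.comp_apply, TopCat.Presheaf.germ_res_apply]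
    erw [← pullRat_germ s hη _ hξ F hηN.1, ← pullRat_germ t hη _ hξ F hηN.2]
    rw [hFy, hy η hη])
  refine ⟨Y.presheaf.germ U _ hξ g, ?_⟩
  rw [Scheme.Hom.germ_stalkMap_apply π U _ hξ g, hg, hFy]

/-- The function field of `X` is formally smooth over that of the quotient. -/
theorem formallySmooth_stalkMap_genericPoint [LocallyOfFiniteType π] (hst : s ≫ π = t ≫ π)
    (orb : ∀ x x', π x = π x' → ∃ w, s w = x ∧ t w = x') (hq : IsQuotientMap π)
    (hsec : ∀ (U : Y.Opens) (f : Γ(X, π ⁻¹ᵁ U)),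
      s.appLE (π ⁻¹ᵁ U) (s ⁻¹ᵁ (π ⁻¹ᵁ U) ⊓ t ⁻¹ᵁ (π ⁻¹ᵁ U)) inf_le_left f =
        t.appLE (π ⁻¹ᵁ U) (s ⁻¹ᵁ (π ⁻¹ᵁ U) ⊓ t ⁻¹ᵁ (π ⁻¹ᵁ U)) inf_le_right f →
      ∃ g, π.app U g = f)
    (hL : IsField (Y.presheaf.stalk (π (genericPoint X)))) :
    (π.stalkMap (genericPoint X)).hom.FormallySmooth := by
  letI := hL.toField
  letI : Field (X.presheaf.stalk (genericPoint X)) := inferInstanceAs (Field X.functionField)
  haveI : IsReduced W := Groth.Agent.H13AlgSp.isReduced_of_smooth_mor t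
  letI := (π.stalkMap (genericPoint X)).hom.toAlgebra
  haveI : Algebra.EssFiniteType (Y.presheaf.stalk (π (genericPoint X))) (X.presheaf.stalk (genericPoint X)) :=
    LocallyOfFiniteType.stalkMap π (genericPoint X)
  show Algebra.FormallySmooth (Y.presheaf.stalk (π (genericPoint X))) (X.presheaf.stalk (genericPoint X))
  obtain _ | ⟨p, hp, hpF⟩ := CharP.exists' (X.presheaf.stalk (genericPoint X))
  · haveI : CharZero (Y.presheaf.stalk (π (genericPoint X))) :=
      RingHom.charZero (π.stalkMap (genericPoint X)).hom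
    infer_instance
  · letI hF : ∀ η : genericPoints W, Field (W.presheaf.stalk η.1) := fun η =>
      (Groth.Agent.H17.isField_stalk_generic W η.2 inferInstance).toField
    refine formallySmooth_of_invariants p (E := fun η : genericPoints W => W.presheaf.stalk η.1)
      (fun η => (pullRat s η.2).hom) (fun η => (pullRat t η.2).hom)
      (fun η c => pullRat_stalkMap π s t hst η.2 c)
      (fun y hy => exists_eq_stalkMap π s t hst orb hq hsec y fun η hη => hy ⟨η, hη⟩)
      (fun η => ?_)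
    letI : Algebra (X.presheaf.stalk (genericPoint X)) (W.presheaf.stalk η.1) := (pullRat t η.2).hom.toAlgebra
    haveI : Algebra.FormallySmooth (X.presheaf.stalk (genericPoint X)) (W.presheaf.stalk η.1) :=
      formallySmooth_pullRat t η.2
    exact Groth.Agent.S2451.result.1 inferInstance

end

end Groth.Agent.H02CA.GQSmooth
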