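import Groth.Agent.H02CA.GQSmooth.Generic
import Groth.Agent.S2805

/-!
The generic fibre of a geometric quotient by a smooth equivalence relation is smooth.
-/

universe u

open CategoryTheory CategoryTheory.Limits AlgebraicGeometry Topology

namespace Groth.Agent.H02CA.GQSmooth

variable {X Y W : Scheme.{u}}

theorem bijective_of_surjective_of_isField {A B : CommRingCat.{u}} (f : A ⟶ B) (hA : IsField A) [Nontrivial B]
    (hf : Function.Surjective f) : IsIso f := by
  letI := hA.toField
  exact (ConcreteCategory.isIso_iff_bijective f).2 ⟨f.hom.injective, hf⟩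

theorem formallySmooth_congr {A B : Scheme.{u}} (φ φ' : A ⟶ B) (h : φ = φ') (z : A) :
    (φ.stalkMap z).hom.FormallySmooth ↔ (φ'.stalkMap z).hom.FormallySmooth := by
  subst h; exact Iff.rfl

/-- The generic fibre of a geometric quotient by a smooth relation is smooth. -/
theorem smooth_fiber_genericPoint [IsIntegral X] [IrreducibleSpace Y] (π : X ⟶ Y) [LocallyOfFiniteType π]
    (s t : W ⟶ X) [Smooth s] [Smooth t] (hst : s ≫ π = t ≫ π) (hsurj : Function.Surjective π)
    (orb : ∀ x x', π x = π x' → ∃ w, s w = x ∧ t w = x') (hq : IsQuotientMap π)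
    (happ : ∀ U, Function.Injective (π.app U))
    (hsec : ∀ (U : Y.Opens) (f : Γ(X, π ⁻¹ᵁ U)),
      s.appLE (π ⁻¹ᵁ U) (s ⁻¹ᵁ (π ⁻¹ᵁ U) ⊓ t ⁻¹ᵁ (π ⁻¹ᵁ U)) inf_le_left f =
        t.appLE (π ⁻¹ᵁ U) (s ⁻¹ᵁ (π ⁻¹ᵁ U) ⊓ t ⁻¹ᵁ (π ⁻¹ᵁ U)) inf_le_right f →
      ∃ g, π.app U g = f) :
    Smooth (π.fiberToSpecResidueField (genericPoint Y)) := by
  haveI : AlgebraicGeometry.IsReduced Y := ⟨fun U => isReduced_of_injective (π.app U).hom (happ U)⟩
  haveI : IsIntegral Y := isIntegral_of_irreducibleSpace_of_isReduced Y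
  have hk : π (genericPoint X) = genericPoint Y :=
    ((genericPoint_spec X).image π.continuous).eq
      (by rw [Set.image_univ, hsurj.range_eq, closure_univ]; exact genericPoint_spec Y)
  have hηF : IsField (Y.presheaf.stalk (genericPoint Y)) :=
    Field.toIsField Y.functionField
  have hL : IsField (Y.presheaf.stalk (π (genericPoint X))) := by rw [hk]; exact hηF
  set η := genericPoint Y
  set g := π.fiberToSpecResidueField η
  set ι := π.fiberι η
  have hsq : IsPullback ι g π (Y.fromSpecResidueField η) := IsPullback.of_hasPullback _ _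
  haveI : LocallyOfFiniteType g := MorphismProperty.of_isPullback hsq inferInstance
  haveI : IsLocallyNoetherian (Spec (Y.residueField η)) := inferInstance
  haveI : LocallyOfFinitePresentation g := inferInstance
  obtain ⟨ξ', hξ'⟩ : genericPoint X ∈ Set.range ι := by rw [π.range_fiberι]; exact hk
  -- smoothness at the generic point
  have hgen : ξ' ∈ g.smoothLocus := by
    have h := formallySmooth_stalkMap_genericPoint π s t hst orb hq hsec hL
    rw [show (genericPoint X) = ι ξ' from hξ'.symm] at h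
    haveI : IsIso (ι.stalkMap ξ') := bijective_of_surjective_of_isField _
      (by rw [hξ']; exact Field.toIsField X.functionField)
      (ι.stalkMap_surjective ξ')
    haveI : IsIso ((Y.fromSpecResidueField η).stalkMap (g ξ')) := bijective_of_surjective_of_isField _
      (by
        have : (Y.fromSpecResidueField η) (g ξ') = η := Scheme.fromSpecResidueField_apply _ _
        rw [this]; exact hηF)
      ((Y.fromSpecResidueField η).stalkMap_surjective (g ξ'))
    have h1 : ((ι ≫ π).stalkMap ξ').hom.FormallySmooth := by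
      rw [Scheme.Hom.stalkMap_comp]
      exact (RingHom.FormallySmooth.respectsIso.cancel_right_isIso (π.stalkMap (ι ξ')) (ι.stalkMap ξ')).2 h
    rw [formallySmooth_congr _ _ hsq.w, Scheme.Hom.stalkMap_comp] at h1
    exact (RingHom.FormallySmooth.respectsIso.cancel_left_isIso
      ((Y.fromSpecResidueField η).stalkMap (g ξ')) (g.stalkMap ξ')).1 h1
  -- homogeneity
  rw [← Scheme.Hom.smoothLocus_eq_top_iff]
  refine eq_top_iff.2 fun x _ => ?_
  obtain ⟨w, hsw, htw⟩ := orb (genericPoint X) (ι x) (by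
    rw [hk]
    have : ι x ∈ π ⁻¹' {η} := by rw [← π.range_fiberι]; exact Set.mem_range_self x
    exact this.symm)
  let Wη := pullback (s ≫ π) (Y.fromSpecResidueField η)
  let p₁ : Wη ⟶ W := pullback.fst _ _
  let p₂ : Wη ⟶ Spec (Y.residueField η) := pullback.snd _ _
  have hW : IsPullback p₁ p₂ (s ≫ π) (Y.fromSpecResidueField η) := IsPullback.of_hasPullback _ _
  let sη : Wη ⟶ π.fiber η := hsq.lift (p₁ ≫ s) p₂ (by rw [Category.assoc]; exact hW.w)
  let tη : Wη ⟶ π.fiber η := hsq.lift (p₁ ≫ t) p₂ (by rw [Category.assoc, ← hst]; exact hW.w)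
  have hs₁ : sη ≫ ι = p₁ ≫ s := hsq.lift_fst _ _ _
  have hs₂ : sη ≫ g = p₂ := hsq.lift_snd _ _ _
  have ht₁ : tη ≫ ι = p₁ ≫ t := hsq.lift_fst _ _ _
  have ht₂ : tη ≫ g = p₂ := hsq.lift_snd _ _ _
  have hsη : IsPullback p₁ sη s ι := IsPullback.of_bot (hs₂.symm ▸ hW) hs₁.symm hsq
  have htη : IsPullback p₁ tη t ι := IsPullback.of_bot (ht₂.symm ▸ (hst ▸ hW)) ht₁.symm hsq
  haveI : Smooth sη := MorphismProperty.of_isPullback hsη inferInstance
  haveI : Smooth tη := MorphismProperty.of_isPullback htη inferInstance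
  haveI : LocallyOfFinitePresentation p₂ := by rw [← hs₂]; infer_instance
  obtain ⟨w', hw', hwx⟩ := Scheme.exists_preimage_of_isPullback hsη w ξ' (by rw [hsw, hξ'])
  have htx : tη w' = x := ι.isEmbedding.injective (by
    rw [← Scheme.Hom.comp_apply, ht₁, Scheme.Hom.comp_apply, hw', htw])
  obtain ⟨U, hξU, hU⟩ := (Groth.Agent.H17.LocusBC.mem_smoothLocus_iff_exists g ξ').1 hgen
  obtain ⟨V, hV, hVsm⟩ := Groth.Agent.S2805.result g p₂ tη ht₂ w' (Flat.stalkMap tη w')
    ⟨sη ⁻¹ᵁ U, by show sη w' ∈ U; rw [hwx]; exact hξU, by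
      rw [← hs₂, ← Category.assoc, ← morphismRestrict_ι, Category.assoc]
      infer_instance⟩
  exact (Groth.Agent.H17.LocusBC.mem_smoothLocus_iff_exists g x).2 ⟨V, htx ▸ hV, hVsm⟩

end Groth.Agent.H02CA.GQSmooth
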